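import Groth.Agent.RelPC17.FibTriv
import Groth.Agent.Lib.DegComp
import Groth.Agent.Lib.CurveRR
import Groth.Agent.Lib.GenLocusGG
import Groth.Agent.H23.PicInv
import Groth.Agent.InvX.GenEpi
import Groth.Agent.Synt29.HyperH0
import Groth.Agent.QCoh.Support
import Groth.Agent.Snapper.DimVanish

/-!
# Nef modules on schemes of dimension at most one with `H¹(O) = 0`
-/

set_option autoImplicit false
set_option linter.style.haveILetI false
set_option linter.unusedSectionVars false
set_option backward.isDefEq.respectTransparency false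
set_option backward.isDefEq.respectTransparency.types false
set_option maxHeartbeats 1000000

universe u

open CategoryTheory CategoryTheory.Limits AlgebraicGeometry TopologicalSpace Opposite

noncomputable section

namespace Groth.Agent.NefH1

open Groth.Agent RelPC17.DimOne

variable (k : Type u) [Field k] {X : Scheme.{u}} [X.Over (Spec (CommRingCat.of k))]
  [IsProper (X ↘ Spec (CommRingCat.of k))]

theorem fibre_dim (hdim : topologicalKrullDim X ≤ 1) (y : ↥(Spec (CommRingCat.of k))) :
    topologicalKrullDim ↥((X ↘ Spec (CommRingCat.of k)).fiber y) ≤ (1 : ℕ) :=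
  (((X ↘ Spec (CommRingCat.of k)).fiberι y).isEmbedding.isInducing.topologicalKrullDim_le).trans
    (by exact_mod_cast hdim)

/-- The Euler characteristic in dimension at most one. -/
theorem euler_eq (hdim : topologicalKrullDim X ≤ 1) {M : X.Modules} (hM : Coh.IsQCoh M) :
    Curv2.euler k X M =
      (Module.finrank k (Coh.HH X M 0) : ℤ) - Module.finrank k (Coh.HH X M 1) := by
  haveI := CurveCohLib.isNoetherian_of_proper (k := k) (X := X)
  haveI : X.IsSeparated := ⟨by
    rw [← terminal.comp_from (X ↘ Spec (CommRingCat.of k))]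
    infer_instance⟩
  rw [Euler.euler_eq_sum k M 2 fun i hi =>
    Snapper.subsingleton_HH_of_dim_le (d := 1) (by exact_mod_cast hdim) hM (by omega)]
  rw [Finset.sum_range_succ, Finset.sum_range_one]
  simp
  ring

variable (hdim : topologicalKrullDim X ≤ 1)
  (hO : Subsingleton (Coh.HH X (Coh.structureModule X) 1))
  {L : X.Modules} (hL : PicF.IsInvertible L)
  (hdeg : ∀ ξ : X, topologicalKrullDim ↥(closure ({ξ} : Set X)) = 1 → 0 ≤ DegComp.degAt k L 1 ξ)

include k hdim hO hL hdeg in
/-- A nonzero quotient of a nef module has a nonzero section. -/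
theorem isZero_of_h0 {C : X.Modules} (hC : Coh.IsCoh C) (q : L ⟶ C) [Epi q]
    (h : Subsingleton (Coh.HH X C 0)) : IsZero C := by
  haveI := CurveCohLib.isNoetherian_of_proper (k := k) (X := X)
  obtain ⟨D, hD, ⟨e₀⟩⟩ := H23.PicInv.exists_inverse hL
  have e : (DCoh.tensorBi.obj L).obj D ≅ Coh.structureModule X := e₀
  obtain ⟨c⟩ := H23.PicMul.comm D L
  let e' : (DCoh.tensorBi.obj D).obj L ≅ Coh.structureModule X := c ≪≫ e
  let G := (DCoh.tensorBi.obj D).obj C
  have hG : Coh.IsCoh G := ParShLib.isCoh_tensorMod (CurveDeg.isCoh_of_isInvertible hD) hC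
  let p : Coh.structureModule X ⟶ G := e'.inv ≫ (DCoh.tensorBi.obj D).map q
  haveI : Epi p := epi_comp _ _
  let γ : (DCoh.tensorBi.obj L).obj G ≅ C := (CurveRR.cancelIso e).app C
  have hsum := DegComp.euler_sum k (InvEnd.isFinLocFreeOfRank_one hL) hG
    ((Topology.IsEmbedding.subtypeVal.isInducing.topologicalKrullDim_le).trans hdim)
  have hnn : 0 ≤ Curv2.euler k X ((DCoh.tensorBi.obj L).obj G) - ((1 : ℕ) : ℤ) * Curv2.euler k X G := by
    rw [hsum]
    refine finsum_nonneg fun ξ => ?_
    split_ifs with hξ
    · exact mul_nonneg (Int.natCast_nonneg _) (hdeg ξ hξ)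
    · exact le_rfl
  rw [CurveCohLib.euler_congr (k := k) γ, euler_eq k hdim hC.1,
    euler_eq k hdim hG.1] at hnn
  haveI hG1 : Subsingleton (Coh.HH X G 1) :=
    haveI := hO
    (hmap_surjective (X ↘ Spec (CommRingCat.of k)) (fibre_dim k hdim) p
      QCoh.isQCoh_structureModule hG.1).subsingleton
  haveI := CurveCohLib.finite_HH (k := k) hG 0
  haveI := h
  rw [Module.finrank_zero_of_subsingleton (R := k) (M := Coh.HH X C 0),
    Module.finrank_zero_of_subsingleton (R := k) (M := Coh.HH X G 1)] at hnn
  haveI hG0 : Subsingleton (Coh.HH X G 0) := Module.finrank_zero_iff (R := k).1 (by omega)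
  haveI := Synt29.HyperH0.subsingleton_sections hG0
  have hp : p = 0 := AmpleX.eq_zero_of_one_eq_zero _ (Subsingleton.elim _ _)
  exact ((DCoh.tensorBi.obj L).map_isZero (IsZero.of_epi_eq_zero p hp)).of_iso γ.symm

variable (L) in
/-- The evaluation of the global sections. -/
abbrev evalSect : (∐ fun _ : Γ(L, ⊤) => Coh.structureModule X) ⟶ L :=
  Sigma.desc fun s => InvX.ofSect s

include k hdim hO hL hdeg in
/-- Global sections generate. -/
theorem epi_evalSect : Epi (evalSect L) := by
  haveI := CurveCohLib.isNoetherian_of_proper (k := k) (X := X)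
  let f := X ↘ Spec (CommRingCat.of k)
  let e := evalSect L
  let π := cokernel.π e
  have hF := isQCoh_coprodO X Γ(L, ⊤)
  have hLc : Coh.IsCoh L := CurveDeg.isCoh_of_isInvertible hL
  have hC : Coh.IsCoh (cokernel e) := QCoh.isCoh_cokernel hF hLc e
  let S : ShortComplex X.Modules := ShortComplex.mk (kernel.ι π) π (kernel.condition π)
  have hS : S.ShortExact := { exact := ShortComplex.exact_of_f_is_kernel _ (kernelIsKernel π) }
  let T : ShortComplex X.Modules := ShortComplex.mk e π (cokernel.condition e)
  let l := kernel.lift π e (cokernel.condition e)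
  haveI : Epi l := (ShortComplex.exact_iff_epi_kernel_lift T).1
    (ShortComplex.exact_of_g_is_cokernel T (cokernelIsCokernel e))
  have hK : Subsingleton (Coh.HH X S.X₁ 1) :=
    subsingleton_HH_one_of_epi f (fibre_dim k hdim) hO (QCoh.isQCoh_kernel hLc.1 hC.1 π) l
  have h0 : Subsingleton Γ(cokernel e, ⊤) := subsingleton_of_forall_eq 0 fun z => by
    obtain ⟨s, hs⟩ := RelPC17.FibTriv.app_top_surjective hS hK z
    rw [← hs]
    have hz : InvX.ofSect s ≫ π = 0 := by
      rw [show InvX.ofSect s = Sigma.ι (fun _ : Γ(L, ⊤) => Coh.structureModule X) s ≫ e from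
        (Sigma.ι_desc _ _).symm, Category.assoc, cokernel.condition, comp_zero]
    have h1 := congrArg InvX.one hz
    change π.app ⊤ (InvX.one (InvX.ofSect s)) = 0 at h1
    rwa [InvX.one_ofSect] at h1
  exact Preadditive.epi_of_isZero_cokernel e
    (isZero_of_h0 k hdim hO hL hdeg hC π (Synt29.HyperH0.subsingleton_HH0 h0))

include k hdim hO hL hdeg in
/-- The vanishing of the first cohomology of a nef module. -/
theorem subsingleton_HH_one : Subsingleton (Coh.HH X L 1) := by
  haveI := CurveCohLib.isNoetherian_of_proper (k := k) (X := X)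
  haveI := epi_evalSect k hdim hO hL hdeg
  exact subsingleton_HH_one_of_epi (X ↘ Spec (CommRingCat.of k)) (fibre_dim k hdim) hO
    (CurveDeg.isCoh_of_isInvertible hL).1 (evalSect L)

include k hdim hO hL hdeg in
/-- A nef module is globally generated. -/
theorem exists_mem_locus (x : X) : ∃ t : Γ(L, ⊤), x ∈ H23.TrivBasic.locus t :=
  GenLocusGG.exists_mem_locus hL ⟨_, evalSect L, epi_evalSect k hdim hO hL hdeg⟩ x

end Groth.Agent.NefH1
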