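import Groth.Agent.NefH1.Field
import Groth.Agent.Pic13Lib.IntNum
import Groth.Agent.H28.PBAtlas
import Groth.Agent.Lib.NefPull

/-!
# Relatively nef modules over an affine Noetherian base with `H¹(O) = 0`
-/

set_option autoImplicit false
set_option linter.style.haveILetI false
set_option linter.unusedSectionVars false
set_option backward.isDefEq.respectTransparency false
set_option backward.isDefEq.respectTransparency.types false
set_option maxHeartbeats 1000000

universe u

open CategoryTheory CategoryTheory.Limits AlgebraicGeometry TopologicalSpace Opposite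

noncomputable section

namespace Groth.Agent.NefH1

open Groth.Agent RelPC17

/-- Degrees of invertible modules along an isomorphism. -/
theorem deg_iso (k : Type u) [Field k] {C D : Scheme.{u}} [C.Over (Spec (CommRingCat.of k))] [D.Over (Spec (CommRingCat.of k))]
    [IsProper (C ↘ Spec (CommRingCat.of k))]
    (θ : C ≅ D) (hθ : θ.hom ≫ (D ↘ Spec (CommRingCat.of k)) = C ↘ Spec (CommRingCat.of k))
    {N : D.Modules} (hN : PicF.IsInvertible N) :
    Curv2.deg k D N 1 = Curv2.deg k C ((Scheme.Modules.pullback θ.hom).obj N) 1 := by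
  have key : ∀ {M : D.Modules}, PicF.IsInvertible M →
      Curv2.euler k C ((Scheme.Modules.pullback θ.hom).obj M) = Curv2.euler k D M := fun {M} hM => by
    refine (CurveCohLib.euler_congr (k := k) ((H28.PBAtlas.pullIsoPush θ.hom).app M)).trans ?_
    haveI : IsProper (D ↘ Spec (CommRingCat.of k)) := by
      rw [← (Iso.inv_comp_eq θ).2 hθ.symm]; infer_instance
    haveI := CurveCohLib.isNoetherian_of_proper (k := k) (X := D)
    refine Pic13Lib.euler_push (inv θ.hom) ?_ (AmpleVan.isCoh_invertible hM).1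
    rw [IsIso.inv_comp_eq]; exact hθ.symm
  obtain ⟨e0⟩ := PicClLib.nonempty_pullback_structureModule θ.hom
  have h1 := key hN
  have h0 := key InvX.isInvertible_structureModule
  rw [CurveCohLib.euler_congr (k := k) e0] at h0
  simp only [Curv2.deg]
  rw [h1, h0]

variable {A : Type u} [CommRing A] [IsNoetherianRing A] {X : Scheme.{u}}
  [X.Over (Spec (CommRingCat.of A))] [IsProper (X ↘ Spec (CommRingCat.of A))]
  (hd : ∀ y, topologicalKrullDim ↥((X ↘ Spec (CommRingCat.of A)).fiber y) ≤ (1 : ℕ))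
  (hO : Subsingleton (Coh.HH X (Coh.structureModule X) 1))
  {L : X.Modules} (hL : PicF.IsInvertible L)
  (hnef : ∀ (K : Type u) [Field K] (i : A →+* K) (J : X.IdealSheafData)
      (t : J.subscheme ⟶ Spec (CommRingCat.of K)),
      AlgebraicGeometry.IsIntegral J.subscheme → topologicalKrullDim ↥J.subscheme = 1 →
      t ≫ Spec.map (CommRingCat.ofHom i) = J.subschemeι ≫ (X ↘ Spec (CommRingCat.of A)) →
      0 ≤ @Curv2.deg K _ J.subscheme ⟨t⟩ ((Scheme.Modules.pullback J.subschemeι).obj L) 1)

include hd hO hL hnef in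
/-- The restriction to a closed fibre. -/
theorem fibre_data (m : Ideal A) (hm : m.IsMaximal) {Z : Scheme.{u}} (i : Z ⟶ X)
    (t : Z ⟶ Spec (CommRingCat.of (A ⧸ m)))
    (sq : IsPullback i t (X ↘ Spec (CommRingCat.of A))
      (Spec.map (CommRingCat.ofHom (Ideal.Quotient.mk m)))) :
    Subsingleton (Coh.HH Z ((Scheme.Modules.pullback i).obj L) 1) ∧
      ∀ z : Z, ∃ w : Γ((Scheme.Modules.pullback i).obj L, ⊤), z ∈ H23.TrivBasic.locus w := by
  letI := Ideal.Quotient.field m
  let π := X ↘ Spec (CommRingCat.of A)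
  let q := Spec.map (CommRingCat.ofHom (Ideal.Quotient.mk m))
  haveI : IsClosedImmersion q := IsClosedImmersion.spec_of_surjective _ Ideal.Quotient.mk_surjective
  haveI : IsClosedImmersion i := MorphismProperty.of_isPullback sq.flip inferInstance
  letI : Z.Over (Spec (CommRingCat.of (A ⧸ m))) := ⟨t⟩
  haveI : IsProper (Z ↘ Spec (CommRingCat.of (A ⧸ m))) :=
    MorphismProperty.of_isPullback sq (inferInstanceAs (IsProper π))
  let y := q (IsLocalRing.closedPoint (A ⧸ m))
  have hrange : Set.range i ⊆ π ⁻¹' {y} := by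
    rintro _ ⟨z, rfl⟩
    show π (i z) = y
    rw [← Scheme.Hom.comp_apply, sq.w, Scheme.Hom.comp_apply]
    exact congrArg q (Subsingleton.elim (α := PrimeSpectrum (A ⧸ m)) _ _)
  have hdim : topologicalKrullDim Z ≤ 1 := by
    have he : Topology.IsEmbedding fun z => (π.fiberHomeo y).symm ⟨i z, hrange ⟨z, rfl⟩⟩ :=
      (π.fiberHomeo y).symm.isEmbedding.comp (i.isEmbedding.codRestrict _ fun z => hrange ⟨z, rfl⟩)
    exact he.isInducing.topologicalKrullDim_le.trans (by exact_mod_cast hd y)
  have hO' : Subsingleton (Coh.HH Z (Coh.structureModule Z) 1) :=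
    DimOne.subsingleton_baseChange π hd hO q i t sq
  have hLZ := PicClLib.isInvertible_pullback i hL
  have hdeg : ∀ ξ : Z, topologicalKrullDim ↥(closure ({ξ} : Set Z)) = 1 →
      0 ≤ DegComp.degAt (A ⧸ m) ((Scheme.Modules.pullback i).obj L) 1 ξ := by
    intro ξ hξ
    obtain ⟨hint, hr, -⟩ := NefPull.closure_data ξ
    let J₀ := IntMult.ptIdeal ξ
    haveI : IsIntegral J₀.subscheme := hint
    letI : J₀.subscheme.Over (Spec (CommRingCat.of (A ⧸ m))) := ⟨J₀.subschemeι ≫ t⟩
    haveI : IsProper (J₀.subscheme ↘ Spec (CommRingCat.of (A ⧸ m))) :=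
      inferInstanceAs (IsProper (J₀.subschemeι ≫ (Z ↘ Spec (CommRingCat.of (A ⧸ m)))))
    let j := J₀.subschemeι ≫ i
    let J := j.ker
    let θ : J₀.subscheme ≅ J.subscheme := asIso j.toImage
    have hθ : θ.hom ≫ J.subschemeι = j := j.toImage_imageι
    letI : J.subscheme.Over (Spec (CommRingCat.of (A ⧸ m))) := ⟨θ.inv ≫ J₀.subschemeι ≫ t⟩
    have hdJ : topologicalKrullDim J.subscheme = 1 := by
      rw [← IsHomeomorph.topologicalKrullDim_eq _ θ.hom.homeomorph.isHomeomorph,
        IsHomeomorph.topologicalKrullDim_eq _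
          ((J₀.subschemeι.isEmbedding.toHomeomorph).trans (Homeomorph.setCongr hr)).isHomeomorph, hξ]
    haveI : Nonempty J.subscheme := ⟨θ.hom (genericPoint J₀.subscheme)⟩
    haveI : IsIntegral J.subscheme := isIntegral_of_isOpenImmersion θ.inv
    have h := hnef (A ⧸ m) (Ideal.Quotient.mk m) J (θ.inv ≫ J₀.subschemeι ≫ t) inferInstance hdJ (by
      rw [Category.assoc, Category.assoc, ← sq.w, ← Category.assoc J₀.subschemeι,
        show J₀.subschemeι ≫ i = θ.hom ≫ J.subschemeι from hθ.symm, Category.assoc, θ.inv_hom_id_assoc])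
    rw [deg_iso (A ⧸ m) θ (by
      show θ.hom ≫ θ.inv ≫ _ = _
      rw [θ.hom_inv_id_assoc]; rfl) (PicClLib.isInvertible_pullback _ hL)] at h
    let ε : (Scheme.Modules.pullback θ.hom).obj ((Scheme.Modules.pullback J.subschemeι).obj L) ≅
        (Scheme.Modules.pullback J₀.subschemeι).obj ((Scheme.Modules.pullback i).obj L) :=
      (Scheme.Modules.pullbackComp θ.hom J.subschemeι).app L ≪≫ (Scheme.Modules.pullbackCongr hθ).app L ≪≫
      ((Scheme.Modules.pullbackComp J₀.subschemeι i).app L).symm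
    exact h.trans_eq (CurveRR.deg_congr (A ⧸ m) ε 1)
  exact ⟨subsingleton_HH_one (A ⧸ m) hdim hO' hLZ hdeg,
    exists_mem_locus (A ⧸ m) hdim hO' hLZ hdeg⟩

include hd hO hL hnef in
/-- A relatively nef module has no first cohomology and is globally generated. -/
theorem main : Curv2.IsGloballyGenerated L ∧ Subsingleton (Coh.HH X L 1) := by
  let π := X ↘ Spec (CommRingCat.of A)
  haveI : IsLocallyNoetherian X := LocallyOfFiniteType.isLocallyNoetherian π
  haveI : CompactSpace X := QuasiCompact.compactSpace_of_compactSpace π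
  have hLc : Coh.IsCoh L := CurveDeg.isCoh_of_isInvertible hL
  have hH : Subsingleton (Coh.HH X L 1) := FibTriv.subsingleton_HH_one hd hLc.1 hLc fun m hm =>
    (fibre_data hd hO hL hnef m hm _ _ (IsPullback.of_hasPullback _ _)).1
  refine ⟨InvX.isGloballyGenerated_of_generated
    (AVAmple.generatedBy_of_locus (fun s : Γ(L, ⊤) => s) fun x => ?_), hH⟩
  obtain ⟨z, hz, hzc⟩ := (isClosed_closure (s := {x})).exists_closed_singleton ⟨x, subset_closure rfl⟩
  have hm : (π z).asIdeal.IsMaximal := by
    rw [← PrimeSpectrum.isClosed_singleton_iff_isMaximal]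
    have := π.isClosedMap _ hzc
    rwa [Set.image_singleton] at this
  let m := (π z).asIdeal
  letI := Ideal.Quotient.field m
  let q := Spec.map (CommRingCat.ofHom (Ideal.Quotient.mk m))
  haveI : IsClosedImmersion q := IsClosedImmersion.spec_of_surjective _ Ideal.Quotient.mk_surjective
  have hq : q (IsLocalRing.closedPoint (A ⧸ m)) = π z := by
    refine PrimeSpectrum.ext ?_
    show Ideal.comap (Ideal.Quotient.mk m) (IsLocalRing.closedPoint (A ⧸ m)).asIdeal = m
    rw [show (IsLocalRing.closedPoint (A ⧸ m)).asIdeal = ⊥ from IsLocalRing.maximalIdeal_eq_bot,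
      ← RingHom.ker_eq_comap_bot, Ideal.mk_ker]
  obtain ⟨hH', hgg⟩ := fibre_data hd hO hL hnef m hm _ _ (IsPullback.of_hasPullback π q)
  obtain ⟨z', hz', -⟩ := Scheme.Pullback.exists_preimage_pullback (f := π) (g := q) z
    (IsLocalRing.closedPoint (A ⧸ m)) hq.symm
  obtain ⟨w, hw⟩ := hgg z'
  obtain ⟨s, hs⟩ := FibTriv.exists_lift hd hLc.1 m (pullback.fst π q) (IsPullback.of_hasPullback π q)
    hH' hH w
  refine ⟨s, (specializes_iff_mem_closure.2 hz).mem_open (H23.TrivBasic.locus s).isOpen ?_⟩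
  rw [← hs] at hw
  rw [H23.TrivBasic.locus_pullElt hL (pullback.fst π q) s] at hw
  exact hz' ▸ hw

end Groth.Agent.NefH1
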